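import Cfsg.Agent.H246.TitsComp
import Cfsg.Agent.Omega.TwoF.TitsAut

/-! Every automorphism of order two of the Tits group is inner. -/

set_option autoImplicit false

namespace Cfsg.Agent.H246.TitsInner

open Subgroup Cfsg.Agent.ChevalleyStructure.Tits.Sat Cfsg.Agent.ChevalleyStructure.Tits.Order
  Cfsg.Agent.ChevalleyStructure.Tits.Main Cfsg.Agent.ChevalleyStructure.Tits.Mat
  Cfsg.Agent.Omega.TwoF.TitsAut
open scoped MatrixGroups

section Abs

/-- all involutory automorphisms are inner -/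
def InvInner (K : Type*) [Group K] : Prop := ∀ σ : MulAut K, σ * σ = 1 → ∃ x, σ = MulAut.conj x

theorem exists_conj_abs {A : Type*} [Group A] [Finite A] (S : Subgroup A) {n : ℕ} (hS : Nat.card S = 2 ^ n)
    (hn : ¬ 2 ^ (n + 1) ∣ Nat.card A) (σ : A) (hσ : σ * σ = 1) : ∃ τ : A, τ * σ * τ⁻¹ ∈ S := by
  have : Fact (Nat.Prime 2) := ⟨Nat.prime_two⟩
  obtain ⟨k, hk⟩ : ∃ k, Nat.card A = 2 ^ n * k := by
    have h := Subgroup.card_subgroup_dvd_card S
    rw [hS] at h
    exact h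
  have hk2 : ¬ 2 ∣ k := by
    rintro ⟨l, rfl⟩
    apply hn
    rw [hk]
    exact ⟨l, by ring⟩
  have hk0 : k ≠ 0 := by
    rintro rfl
    exact hk2 (dvd_zero 2)
  let P : Sylow 2 A := Sylow.ofCard S (by
    rw [hS, hk, Nat.factorization_mul (by positivity) hk0, Nat.Prime.factorization_pow Nat.prime_two]
    have h2 : Nat.factorization k 2 = 0 := Nat.factorization_eq_zero_of_not_dvd hk2
    simp [h2])
  have hp : IsPGroup 2 (Subgroup.zpowers σ) := by
    rintro ⟨x, k, rfl⟩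
    refine ⟨1, ?_⟩
    apply Subtype.ext
    show (σ ^ k) ^ 2 ^ 1 = 1
    rw [← zpow_natCast, ← zpow_mul, mul_comm, zpow_mul, zpow_natCast, pow_one, pow_two, hσ, one_zpow]
  obtain ⟨Q, hQ⟩ := hp.exists_le_sylow
  obtain ⟨g, hg⟩ := MulAction.exists_smul_eq A Q P
  have h1 : σ ∈ (Q : Subgroup A) := hQ (Subgroup.mem_zpowers σ)
  have h2 : (g • Q : Sylow 2 A).toSubgroup = S := by rw [hg]; rfl
  refine ⟨g, ?_⟩
  rw [← h2, Sylow.coe_subgroup_smul]
  exact Subgroup.smul_mem_pointwise_smul σ (MulAut.conj g) _ h1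

theorem inner_abs {Γ : Type*} [Group Γ] [Finite Γ] (C : Subgroup Γ) [C.Normal] (S : Subgroup Γ) {n : ℕ}
    (hinj : Function.Injective (MulAut.conjNormal : Γ →* MulAut C)) (hS : Nat.card S = 2 ^ n)
    (hn : ¬ 2 ^ (n + 1) ∣ Nat.card (MulAut C)) (hinv : ∀ t : Γ, t * t = 1 → t ∈ C) : InvInner C := by
  intro σ hσ
  have hc : Nat.card (S.map (MulAut.conjNormal : Γ →* MulAut C)) = 2 ^ n := by
    rw [← Nat.card_congr (S.equivMapOfInjective _ hinj).toEquiv, hS]
  obtain ⟨τ, v, hv, h⟩ := exists_conj_abs (S.map (MulAut.conjNormal : Γ →* MulAut C)) hc hn σ hσ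
  have hv2 : v * v = 1 := by
    apply hinj
    rw [map_mul, map_one, h]
    calc τ * σ * τ⁻¹ * (τ * σ * τ⁻¹) = τ * (σ * σ) * τ⁻¹ := by group
      _ = 1 := by rw [hσ]; group
  have hvc := hinv v hv2
  have h1 : (MulAut.conjNormal : Γ →* MulAut C) v = MulAut.conj (⟨v, hvc⟩ : C) := by
    ext x
    rw [MulAut.conjNormal_apply]
    rfl
  refine ⟨τ⁻¹ ⟨v, hvc⟩, ?_⟩
  have h2 : σ = τ⁻¹ * (MulAut.conjNormal : Γ →* MulAut C) v * τ := by rw [h]; group
  rw [h2, h1]
  ext x
  simp

theorem inner_congr {K C : Type*} [Group K] [Group C] (e : K ≃* C) (h : InvInner C) : InvInner K := by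
  intro σ hσ
  obtain ⟨x, hx⟩ := h (MulAut.congr e σ) (by rw [← map_mul, hσ, map_one])
  refine ⟨e.symm x, ?_⟩
  ext g
  have h1 : e (σ (e.symm (e g))) = x * e g * x⁻¹ := congrArg (fun φ : MulAut C => φ (e g)) hx
  rw [MulEquiv.symm_apply_apply] at h1
  apply e.injective
  rw [h1, MulAut.conj_apply, map_mul, map_mul, map_inv, MulEquiv.apply_symm_apply]

theorem inv_of {K G : Type*} [Group K] [Group G] (T : Subgroup G) (hC : InvInner (commutator T))
    (e : K ≃* commutator T) : InvInner K := inner_congr e hC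

end Abs

theorem inner_H0 : InvInner (commutator H0) :=
  have := fin_H0
  inner_abs (commutator H0) (V yH 0) (n := 12)
    (conj_injective Sat_yH gen_yH card_H0 card_V_yH (yH_ne_one (by norm_num)) yH7_sq core H0_result.2.2.1)
    (by rw [card_V_yH]; norm_num) not_dvd_H0 (fun _ ht => TitsComp.mem_commutator_of_sq ht)

theorem inner_aux (T : Subgroup (GL I52 (ZMod 2))) (hT : T = H0) : InvInner (commutator T) := by
  subst hT
  exact inner_H0

/-- **every involutory automorphism of the Tits group is inner** -/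
theorem inner_iso {K : Type*} [Group K] (h : Cfsg.Lie.IsoTits K) : InvInner K := by
  obtain ⟨T, hT, ⟨e⟩⟩ := exists_equiv h
  exact inv_of T (inner_aux T hT) e

end Cfsg.Agent.H246.TitsInner
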