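import Cfsg.Agent.Lib.Cores
import Cfsg.Agent.Lib.ThompsonPQ
import Cfsg.Agent.Lib.KleinGen
import Cfsg.Agent.S1313

/-!
# Odd signalizers inverted by an involution, in a group without components

Let `H` be a finite group with `E(H) = 1`, `z` an element of `H` with `z² = 1` inverting `O(H)`,
`x` a 2-element of `H`, and `D` a subgroup of `C_H(x)` of odd order, normalized by `C_H(x)` and
inverted by `z`. Then `D ≤ O(H)`.
-/

set_option autoImplicit false
set_option linter.style.haveILetI false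

namespace Cfsg.Agent.H246.CoreBalance

open Subgroup Cfsg Cfsg.Agent.Lib.Cores

/-- `F(H) ≤ O_p(H) O_{p'}(H)`. -/
theorem fitting_le (H : Type*) [Group H] [Finite H] (p : ℕ) [hp : Fact p.Prime] :
    fittingSubgroup H ≤ pCore p H ⊔ pPrimeCore p H := by
  rw [fittingSubgroup_eq_iSup_pCore]
  refine iSup_le fun q => ?_
  by_cases hq : (q : ℕ) = p
  · rw [hq]
    exact le_sup_left
  · refine le_trans ?_ le_sup_right
    haveI : Fact (q : ℕ).Prime := ⟨q.2⟩
    refine le_pPrimeCore (Cfsg.Agent.Lib.Cores.pCore_normal _) ?_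
    obtain ⟨n, hn⟩ := IsPGroup.iff_card.1 (pCore_isPGroup (G := H) (q : ℕ))
    rw [hn]
    exact Nat.Coprime.pow_left n ((Nat.coprime_primes q.2 hp.out).2 hq)

/-- a subgroup of odd order inside `F(H)` lies in `O(H)` -/
theorem le_core_of_le_fitting {H : Type*} [Group H] [Finite H] (p : ℕ) [hp : Fact p.Prime]
    {D : Subgroup H} (hD : (Nat.card D).Coprime p) (h : D ≤ fittingSubgroup H) :
    D ≤ pPrimeCore p H := by
  haveI := pCore_normal (G := H) p
  haveI := pPrimeCore_normal (G := H) p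
  intro d hd
  obtain ⟨u, hu, o, ho, huo⟩ := mem_sup_of_normal_left.1 (fitting_le H p (h hd))
  have hcomm : Commute u o := by
    have h1 : ⁅pCore p H, pPrimeCore p H⁆ = ⊥ := by
      rw [eq_bot_iff, ← pCore_inf_pPrimeCore (G := H) p]
      exact commutator_le_inf _ _
    exact (mem_centralizer_iff.1 (commutator_eq_bot_iff_le_centralizer.1 h1 hu) o ho).symm
  have hdo : (orderOf d).Coprime p :=
    Nat.Coprime.coprime_dvd_left (by
      have := orderOf_dvd_natCard (⟨d, hd⟩ : D)
      rwa [← Subgroup.orderOf_coe] at this) hD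
  obtain ⟨k, hk⟩ := (pCore_isPGroup (G := H) p) ⟨u, hu⟩
  have hk' : u ^ p ^ k = 1 := by
    simpa using congrArg Subtype.val hk
  have hun : u ^ orderOf d = 1 := by
    have h2 : (u * o) ^ orderOf d = 1 := by rw [huo, pow_orderOf_eq_one]
    rw [hcomm.mul_pow] at h2
    have h3 : u ^ orderOf d = (o ^ orderOf d)⁻¹ := eq_inv_of_mul_eq_one_left h2
    have h4 : u ^ orderOf d ∈ pCore p H ⊓ pPrimeCore p H :=
      mem_inf.2 ⟨pow_mem hu _, by rw [h3]; exact inv_mem (pow_mem ho _)⟩
    rw [pCore_inf_pPrimeCore] at h4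
    exact h4
  have hu1 : u = 1 := by
    have h5 : orderOf u ∣ Nat.gcd (orderOf d) (p ^ k) :=
      Nat.dvd_gcd (orderOf_dvd_of_pow_eq_one hun) (orderOf_dvd_of_pow_eq_one hk')
    rw [Nat.Coprime.pow_right k hdo] at h5
    exact orderOf_eq_one_iff.1 (Nat.dvd_one.1 h5)
  rw [← huo, hu1, one_mul]
  exact ho

/-- an element of odd order whose square lies in a subgroup lies in it -/
theorem mem_of_sq_mem {H : Type*} [Group H] [Finite H] {C D : Subgroup H} (hD : Odd (Nat.card D))
    {d : H} (hd : d ∈ D) (h : d * d ∈ C) : d ∈ C := by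
  have ho : Odd (orderOf d) := Odd.of_dvd_nat hD (by
      have := orderOf_dvd_natCard (⟨d, hd⟩ : D)
      rwa [← Subgroup.orderOf_coe] at this)
  obtain ⟨m, hm⟩ := ho
  have h1 : d = (d * d) ^ (m + 1) := by
    have h2 : d ^ (2 * m + 1) = 1 := by rw [← hm]; exact pow_orderOf_eq_one d
    calc d = d * d ^ (2 * m + 1) := by rw [h2, mul_one]
      _ = (d * d) ^ (m + 1) := by
        rw [← sq, ← pow_mul, ← pow_succ']
        congr 1
  rw [h1]
  exact pow_mem h _

/-- **Main lemma.** -/
theorem le_core_of_inverted {H : Type*} [Group H] [Finite H] (hE : layer H = ⊥) {z x : H}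
    (hzO : ∀ o ∈ pPrimeCore 2 H, z * o * z⁻¹ = o⁻¹)
    (hx : x * x = 1) {D : Subgroup H} (hDx : ∀ d ∈ D, d * x = x * d)
    (hDn : ∀ c : H, c * x = x * c → ∀ d ∈ D, c * d * c⁻¹ ∈ D) (hD : Odd (Nat.card D))
    (hzD : ∀ d ∈ D, z * d * z⁻¹ = d⁻¹) : D ≤ pPrimeCore 2 H := by
  classical
  haveI := pCore_normal (G := H) 2
  haveI := pPrimeCore_normal (G := H) 2
  have hD2 : (Nat.card D).Coprime 2 := Nat.coprime_two_right.2 hD
  -- `D` centralizes `O(H)`
  have h1 : D ≤ centralizer (pPrimeCore 2 H : Set H) := by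
    intro d hd
    refine mem_of_sq_mem hD hd ?_
    rw [mem_centralizer_iff]
    intro o ho
    have e1 : z * o * z⁻¹ = o⁻¹ := hzO o ho
    have ho' : d * o * d⁻¹ ∈ pPrimeCore 2 H := Normal.conj_mem inferInstance o ho d
    have e2 : z * (d * o * d⁻¹) * z⁻¹ = (d * o * d⁻¹)⁻¹ := hzO _ ho'
    have e3 : z * (d * o * d⁻¹) * z⁻¹ = d⁻¹ * o⁻¹ * d := by
      calc z * (d * o * d⁻¹) * z⁻¹ = (z * d * z⁻¹) * (z * o * z⁻¹) * (z * d * z⁻¹)⁻¹ := by group
        _ = d⁻¹ * o⁻¹ * d⁻¹⁻¹ := by rw [hzD d hd, e1]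
        _ = d⁻¹ * o⁻¹ * d := by group
    have e4 : d * o * d⁻¹ = d⁻¹ * o * d := by
      have : (d * o * d⁻¹)⁻¹ = (d⁻¹ * o * d)⁻¹ := by
        rw [← e2, e3]
        group
      exact inv_injective this
    calc o * (d * d) = d * (d⁻¹ * o * d) * d := by group
      _ = d * (d * o * d⁻¹) * d := by rw [e4]
      _ = d * d * o := by group
  -- `D` centralizes `O₂(H)`
  have h2 : D ≤ centralizer (pCore 2 H : Set H) := by
    refine Cfsg.Agent.Lib.ThompsonPQ.thompson_p_times_q 2 (zpowers x) D (pCore 2 H) ?_ hD2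
      (pCore_isPGroup 2) ?_ ?_ ?_ ?_
    · rw [IsPGroup.iff_card]
      have h3 : Nat.card (zpowers x) ∣ 2 := by
        rw [Nat.card_zpowers]
        exact orderOf_dvd_of_pow_eq_one (by rw [sq]; exact hx)
      rcases (Nat.dvd_prime Nat.prime_two).1 h3 with h4 | h4
      · exact ⟨0, by rw [h4]; rfl⟩
      · exact ⟨1, by rw [h4]; rfl⟩
    · rw [zpowers_le, mem_centralizer_iff]
      exact hDx
    · rw [normalizer_eq_top]
      exact le_top
    · rw [normalizer_eq_top]
      exact le_top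
    · intro u hu0
      obtain ⟨hu, hux⟩ := mem_inf.1 hu0
      have hux' : u * x = x * u :=
        ((mem_centralizer_iff.1 hux) x (mem_zpowers x)).symm
      rw [mem_centralizer_iff]
      intro d hd
      have h5 : d * u * d⁻¹ * u⁻¹ ∈ D ⊓ pCore 2 H := by
        refine mem_inf.2 ⟨?_, ?_⟩
        · have := D.mul_mem hd (hDn u hux' _ (D.inv_mem hd))
          have e : d * u * d⁻¹ * u⁻¹ = d * (u * d⁻¹ * u⁻¹) := by group
          rw [e]
          exact this
        · exact mul_mem (Normal.conj_mem inferInstance u hu d) (inv_mem hu)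
      have h6 : D ⊓ pCore 2 H = ⊥ := by
        obtain ⟨n, hn⟩ := IsPGroup.iff_card.mp (pCore_isPGroup (G := H) 2)
        refine (disjoint_of_coprime_natCard ?_).eq_bot
        rw [hn]
        exact Nat.Coprime.pow_right n hD2
      rw [h6, mem_bot] at h5
      calc d * u = (d * u * d⁻¹ * u⁻¹) * u * d := by group
        _ = u * d := by rw [h5, one_mul]
  -- so `D` centralizes `F*(H)`
  have h3 : D ≤ centralizer (generalizedFittingSubgroup H : Set H) := by
    rw [le_centralizer_iff]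
    unfold generalizedFittingSubgroup
    rw [hE, bot_sup_eq]
    refine (fitting_le H 2).trans (sup_le ?_ ?_)
    · exact le_centralizer_iff.1 h2
    · exact le_centralizer_iff.1 h1
  have h4 : D ≤ fittingSubgroup H := by
    have := h3.trans (Cfsg.Agent.S1313.centralizer_le H)
    unfold generalizedFittingSubgroup at this
    rwa [hE, bot_sup_eq] at this
  exact le_core_of_le_fitting 2 hD2 h4

end Cfsg.Agent.H246.CoreBalance
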